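import Mathlib

set_option autoImplicit false

/-! Project S77 (statement S0429): a strongly regular graph with parameters `(77, 16, 0, 4)` is unique.
Definitions shared by all pieces. -/

namespace Cfsg.Agent.Lib.helper3.S77

open Finset

universe u

variable {V : Type u} [Fintype V] [DecidableEq V] (G : SimpleGraph V) [DecidableRel G.Adj]

/-- combinatorial form of the parameters `(77, 16, 0, 4)` -/
structure Is77 : Prop where
  card : Fintype.card V = 77
  deg : ∀ v, (univ.filter (fun x => G.Adj v x)).card = 16
  tri : ∀ v w x, G.Adj v w → G.Adj v x → G.Adj w x → False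
  mu : ∀ v w, v ≠ w → ¬G.Adj v w → (univ.filter (fun x => G.Adj v x ∧ G.Adj w x)).card = 4

theorem is77_of_srg (h : G.IsSRGWith 77 16 0 4) : Is77 G := by
  have hcn : ∀ v w, Fintype.card (G.commonNeighbors v w) =
      (univ.filter (fun x => G.Adj v x ∧ G.Adj w x)).card := by
    intro v w
    rw [← Nat.card_eq_fintype_card, Nat.card_coe_set_eq]
    have : G.commonNeighbors v w = ↑(univ.filter (fun x => G.Adj v x ∧ G.Adj w x)) := by
      ext x
      simp [SimpleGraph.mem_commonNeighbors]
    rw [this, Set.ncard_coe_finset]
  refine ⟨h.card, fun v => ?_, fun v w x hvw hvx hwx => ?_, fun v w hne hna => ?_⟩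
  · have := h.regular v
    rw [← this, SimpleGraph.degree]
    congr 1
    ext x
    simp
  · have h0 := h.of_adj v w hvw
    rw [hcn, Finset.card_eq_zero] at h0
    have : x ∈ univ.filter (fun x => G.Adj v x ∧ G.Adj w x) := by
      rw [Finset.mem_filter]
      exact ⟨Finset.mem_univ _, hvx, hwx⟩
    rw [h0] at this
    exact absurd this (Finset.notMem_empty _)
  · rw [← hcn]
    exact h.of_not_adj hne hna

/-- the neighbours of the base vertex `o` (the 16 "points") -/
def nN (o : V) : Finset V := univ.filter (fun x => G.Adj o x)

/-- the non-neighbours of the base vertex `o` (the 60 "blocks") -/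
def nM (o : V) : Finset V := univ.filter (fun x => x ≠ o ∧ ¬G.Adj o x)

/-- the block of `y`: its neighbours among the neighbours of `o` -/
def blk (o y : V) : Finset V := (nN G o).filter (fun p => G.Adj y p)

/-- the intersection number of two blocks -/
def kk (o y z : V) : ℕ := (blk G o y ∩ blk G o z).card

/-- the integer matrix `F = 12 I + 4 J - 6 D - 3 K` (48 times the projection onto the eigenspace `-6`
of the second subconstituent); values `4` (equal, or non-adjacent with disjoint blocks),
`1` (non-adjacent, blocks meet in one point), `-2` (adjacent, or blocks meet in two points) -/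
def ff (o y z : V) : ℤ :=
  (if y = z then 12 else 0) + 4 - (if G.Adj y z then 6 else 0) - 3 * (kk G o y z : ℤ)

/-- the class of `y`: the `z` among the blocks with `F y z = 4` -/
def cls (o y : V) : Finset V := (nM G o).filter (fun z => ff G o y z = 4)

/-- the set of the 15 classes -/
def clsSet (o : V) : Finset (Finset V) := (nM G o).image (cls G o)

/-- the "meeting" relation on classes (collinearity of the generalised quadrangle) -/
def TAdj (o : V) (c d : Finset V) : Prop := c ≠ d ∧ ∃ y ∈ c, ∃ z ∈ d, ff G o y z = -2

/-- cocliques -/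
def IsCoc (C : Finset V) : Prop := ∀ x ∈ C, ∀ y ∈ C, ¬G.Adj x y

/-- cocliques of size 21 (the 22 "points" of the Steiner system) -/
def IsCoc21 (C : Finset V) : Prop := C.card = 21 ∧ IsCoc G C

/-- abstract strongly regular graph with parameters `(15, 6, 1, 3)`, as a relation, counted by `ncard` -/
structure IsGQ {C : Type*} (T : C → C → Prop) : Prop where
  card : Nat.card C = 15
  symm : ∀ c d, T c d → T d c
  irrefl : ∀ c, ¬T c c
  deg : ∀ c, {d | T c d}.ncard = 6
  lam : ∀ c d, T c d → {e | T c e ∧ T d e}.ncard = 1
  mu : ∀ c d, c ≠ d → ¬T c d → {e | T c e ∧ T d e}.ncard = 3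

/-- ovoids: cocliques of size 5 -/
def IsOv {C : Type*} (T : C → C → Prop) (O : Finset C) : Prop :=
  O.card = 5 ∧ ∀ c ∈ O, ∀ d ∈ O, ¬T c d

end Cfsg.Agent.Lib.helper3.S77
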