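import Mathlib
import Cfsg.Agent.Lib.helper3.S77.Defs

set_option autoImplicit false

/-! Project S77, piece A1: the basic counts around a base vertex. -/

namespace Cfsg.Agent.Lib.helper3.S77

open Finset

universe u

variable {V : Type u} [Fintype V] [DecidableEq V] (G : SimpleGraph V) [DecidableRel G.Adj]

theorem mem_nN {o x : V} : x ∈ nN G o ↔ G.Adj o x := by
  simp [nN]

theorem mem_nM {o x : V} : x ∈ nM G o ↔ x ≠ o ∧ ¬G.Adj o x := by
  simp [nM]

theorem mem_blk {o y p : V} : p ∈ blk G o y ↔ G.Adj o p ∧ G.Adj y p := by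
  simp [blk, nN]

theorem card_nN (h : Is77 G) (o : V) : (nN G o).card = 16 := h.deg o

theorem card_nM (h : Is77 G) (o : V) : (nM G o).card = 60 := by
  have e : nM G o = (univ.erase o) \ nN G o := by
    ext x
    rw [mem_nM, Finset.mem_sdiff, Finset.mem_erase, mem_nN]
    simp
  have hsub : nN G o ⊆ univ.erase o := by
    intro x hx
    rw [Finset.mem_erase]
    exact ⟨(G.ne_of_adj ((mem_nN G).mp hx)).symm, Finset.mem_univ _⟩
  rw [e, Finset.card_sdiff_of_subset hsub, Finset.card_erase_of_mem (Finset.mem_univ _),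
    Finset.card_univ, h.card, card_nN G h]

theorem nN_indep (h : Is77 G) (o : V) {p q : V} (hp : p ∈ nN G o) (hq : q ∈ nN G o) :
    ¬G.Adj p q := fun hpq => h.tri o p q ((mem_nN G).mp hp) ((mem_nN G).mp hq) hpq

theorem blk_eq (o y : V) : blk G o y = univ.filter (fun x => G.Adj o x ∧ G.Adj y x) := by
  ext x
  rw [mem_blk]
  simp

theorem card_blk (h : Is77 G) (o : V) {y : V} (hy : y ∈ nM G o) : (blk G o y).card = 4 := by
  rw [blk_eq]
  exact h.mu o y ((mem_nM G).mp hy).1.symm ((mem_nM G).mp hy).2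

/-- a block vertex has 12 neighbours among the block vertices -/
theorem deg_nM (h : Is77 G) (o : V) {y : V} (hy : y ∈ nM G o) :
    ((nM G o).filter (fun w => G.Adj y w)).card = 12 := by
  have hy' := (mem_nM G).mp hy
  have e : univ.filter (fun x => G.Adj y x) =
      blk G o y ∪ (nM G o).filter (fun w => G.Adj y w) := by
    ext x
    rw [Finset.mem_union, mem_blk, Finset.mem_filter, Finset.mem_filter, mem_nM]
    constructor
    · rintro ⟨_, hx⟩
      by_cases hox : G.Adj o x
      · exact Or.inl ⟨hox, hx⟩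
      · refine Or.inr ⟨⟨?_, hox⟩, hx⟩
        rintro rfl
        exact hy'.2 hx.symm
    · rintro (⟨_, hx⟩ | ⟨_, hx⟩) <;> exact ⟨Finset.mem_univ _, hx⟩
  have hd : Disjoint (blk G o y) ((nM G o).filter (fun w => G.Adj y w)) := by
    rw [Finset.disjoint_left]
    intro x hx hx'
    rw [mem_blk] at hx
    rw [Finset.mem_filter, mem_nM] at hx'
    exact hx'.1.2 hx.1
  have h1 := h.deg y
  rw [e, Finset.card_union_of_disjoint hd, card_blk G h o hy] at h1
  omega

/-- a point lies in 15 blocks -/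
theorem pt_deg (h : Is77 G) (o : V) {p : V} (hp : p ∈ nN G o) :
    ((nM G o).filter (fun w => G.Adj w p)).card = 15 := by
  have hp' := (mem_nN G).mp hp
  have e : univ.filter (fun x => G.Adj p x) =
      insert o ((nM G o).filter (fun w => G.Adj w p)) := by
    ext x
    rw [Finset.mem_insert, Finset.mem_filter, Finset.mem_filter, mem_nM]
    constructor
    · rintro ⟨_, hx⟩
      by_cases hxo : x = o
      · exact Or.inl hxo
      · exact Or.inr ⟨⟨hxo, fun hox => h.tri o p x hp' hox hx⟩, hx.symm⟩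
    · rintro (rfl | ⟨_, hx⟩)
      · exact ⟨Finset.mem_univ _, hp'.symm⟩
      · exact ⟨Finset.mem_univ _, hx.symm⟩
  have hno : o ∉ (nM G o).filter (fun w => G.Adj w p) := by
    rw [Finset.mem_filter, mem_nM]
    exact fun hh => hh.1.1 rfl
  have h1 := h.deg p
  rw [e, Finset.card_insert_of_notMem hno] at h1
  omega

/-- two points lie in 3 common blocks -/
theorem pt_pair (h : Is77 G) (o : V) {p q : V} (hp : p ∈ nN G o) (hq : q ∈ nN G o)
    (hpq : p ≠ q) : ((nM G o).filter (fun w => G.Adj w p ∧ G.Adj w q)).card = 3 := by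
  have hp' := (mem_nN G).mp hp
  have hq' := (mem_nN G).mp hq
  have e : univ.filter (fun x => G.Adj p x ∧ G.Adj q x) =
      insert o ((nM G o).filter (fun w => G.Adj w p ∧ G.Adj w q)) := by
    ext x
    rw [Finset.mem_insert, Finset.mem_filter, Finset.mem_filter, mem_nM]
    constructor
    · rintro ⟨_, hx, hx'⟩
      by_cases hxo : x = o
      · exact Or.inl hxo
      · exact Or.inr ⟨⟨hxo, fun hox => h.tri o p x hp' hox hx⟩, hx.symm, hx'.symm⟩
    · rintro (rfl | ⟨_, hx, hx'⟩)
      · exact ⟨Finset.mem_univ _, hp'.symm, hq'.symm⟩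
      · exact ⟨Finset.mem_univ _, hx.symm, hx'.symm⟩
  have hno : o ∉ (nM G o).filter (fun w => G.Adj w p ∧ G.Adj w q) := by
    rw [Finset.mem_filter, mem_nM]
    exact fun hh => hh.1.1 rfl
  have h1 := h.mu p q hpq (nN_indep G h o hp hq)
  rw [e, Finset.card_insert_of_notMem hno] at h1
  omega

/-- a point off a block lies in 4 of the blocks adjacent to it -/
theorem pt_blk (h : Is77 G) (o : V) {y p : V} (hy : y ∈ nM G o) (hp : p ∈ nN G o)
    (hyp : ¬G.Adj y p) : ((nM G o).filter (fun w => G.Adj y w ∧ G.Adj w p)).card = 4 := by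
  have hp' := (mem_nN G).mp hp
  have hy' := (mem_nM G).mp hy
  have hne : y ≠ p := by
    rintro rfl
    exact hy'.2 hp'
  have e : univ.filter (fun x => G.Adj y x ∧ G.Adj p x) =
      (nM G o).filter (fun w => G.Adj y w ∧ G.Adj w p) := by
    ext x
    rw [Finset.mem_filter, Finset.mem_filter, mem_nM]
    constructor
    · rintro ⟨_, hx, hx'⟩
      refine ⟨⟨?_, fun hox => h.tri o p x hp' hox hx'⟩, hx, hx'.symm⟩
      rintro rfl
      exact hy'.2 hx.symm
    · rintro ⟨_, hx, hx'⟩
      exact ⟨Finset.mem_univ _, hx, hx'.symm⟩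
  rw [← e]
  exact h.mu y p hne hyp

/-- a point of a block lies in none of the blocks adjacent to it -/
theorem pt_blk' (h : Is77 G) (o : V) {y p : V} (hyp : G.Adj y p) :
    ((nM G o).filter (fun w => G.Adj y w ∧ G.Adj w p)).card = 0 := by
  rw [Finset.card_eq_zero, Finset.filter_eq_empty_iff]
  rintro w _ ⟨h1, h2⟩
  exact h.tri y w p h1 hyp h2

theorem kk_adj (h : Is77 G) (o : V) {y z : V} (hyz : G.Adj y z) : kk G o y z = 0 := by
  unfold kk
  rw [Finset.card_eq_zero, Finset.eq_empty_iff_forall_notMem]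
  intro p hp
  rw [Finset.mem_inter, mem_blk, mem_blk] at hp
  exact h.tri y z p hyz hp.1.2 hp.2.2

theorem kk_self (h : Is77 G) (o : V) {y : V} (hy : y ∈ nM G o) : kk G o y y = 4 := by
  unfold kk
  rw [Finset.inter_self, card_blk G h o hy]

theorem kk_symm (o y z : V) : kk G o y z = kk G o z y := by
  unfold kk
  rw [Finset.inter_comm]

/-- two non-adjacent distinct block vertices have `4 - kk` common neighbours among the block vertices -/
theorem common_nM (h : Is77 G) (o : V) {y z : V} (hy : y ∈ nM G o) (hz : z ∈ nM G o) (hyz : y ≠ z)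
    (hadj : ¬G.Adj y z) :
    ((nM G o).filter (fun w => G.Adj y w ∧ G.Adj w z)).card + kk G o y z = 4 := by
  have hy' := (mem_nM G).mp hy
  have e : univ.filter (fun x => G.Adj y x ∧ G.Adj z x) =
      (nM G o).filter (fun w => G.Adj y w ∧ G.Adj w z) ∪ (blk G o y ∩ blk G o z) := by
    ext x
    rw [Finset.mem_union, Finset.mem_inter, mem_blk, mem_blk, Finset.mem_filter,
      Finset.mem_filter, mem_nM]
    constructor
    · rintro ⟨_, hx, hx'⟩
      by_cases hox : G.Adj o x
      · exact Or.inr ⟨⟨hox, hx⟩, hox, hx'⟩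
      · refine Or.inl ⟨⟨?_, hox⟩, hx, hx'.symm⟩
        rintro rfl
        exact hy'.2 hx.symm
    · rintro (⟨_, hx, hx'⟩ | ⟨⟨_, hx⟩, _, hx'⟩)
      · exact ⟨Finset.mem_univ _, hx, hx'.symm⟩
      · exact ⟨Finset.mem_univ _, hx, hx'⟩
  have hd : Disjoint ((nM G o).filter (fun w => G.Adj y w ∧ G.Adj w z))
      (blk G o y ∩ blk G o z) := by
    rw [Finset.disjoint_left]
    intro x hx hx'
    rw [Finset.mem_inter, mem_blk] at hx'
    rw [Finset.mem_filter, mem_nM] at hx
    exact hx.1.2 hx'.1.1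
  have h1 := h.mu y z hyz hadj
  rw [e, Finset.card_union_of_disjoint hd] at h1
  exact h1

end Cfsg.Agent.Lib.helper3.S77
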