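import Mathlib
import Cfsg.Agent.Lib.helper3.S77.Defs
import Cfsg.Agent.Lib.helper3.S77.A1

set_option autoImplicit false

/-! Project S77, piece A2: the matrix relations `D² = 12 I + 4 J - 4 D - K`, `D K = 16 J - 4 K`,
`K² = 12 K + 48 J` and the row sums, as sums over the block vertices. -/

namespace Cfsg.Agent.Lib.helper3.S77

open Finset

universe u

variable {V : Type u} [Fintype V] [DecidableEq V] (G : SimpleGraph V) [DecidableRel G.Adj]

/-- the adjacency indicator -/
def dd (y z : V) : ℤ := if G.Adj y z then 1 else 0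

theorem dd_symm (y z : V) : dd G y z = dd G z y := by
  unfold dd
  by_cases h : G.Adj y z
  · rw [if_pos h, if_pos h.symm]
  · rw [if_neg h, if_neg (fun h' => h h'.symm)]

theorem dd_mul_dd (a b c d : V) :
    dd G a b * dd G c d = if G.Adj a b ∧ G.Adj c d then 1 else 0 := by
  unfold dd
  by_cases h1 : G.Adj a b <;> by_cases h2 : G.Adj c d
  · rw [if_pos h1, if_pos h2, if_pos ⟨h1, h2⟩]; norm_num
  · rw [if_pos h1, if_neg h2, if_neg (fun hh => h2 hh.2)]; norm_num
  · rw [if_neg h1, if_pos h2, if_neg (fun hh => h1 hh.1)]; norm_num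
  · rw [if_neg h1, if_neg h2, if_neg (fun hh => h1 hh.1)]; norm_num

theorem kk_eq_sum (o y w : V) : (kk G o y w : ℤ) = ∑ p ∈ blk G o y, dd G w p := by
  unfold kk dd
  rw [Finset.sum_boole]
  congr 2
  ext p
  rw [Finset.mem_inter, Finset.mem_filter, mem_blk, mem_blk]
  tauto

theorem sum_dd (h : Is77 G) (o : V) {y : V} (hy : y ∈ nM G o) :
    ∑ w ∈ nM G o, dd G y w = 12 := by
  unfold dd
  rw [Finset.sum_boole, deg_nM G h o hy]
  norm_num

theorem sum_kk (h : Is77 G) (o : V) {y : V} (hy : y ∈ nM G o) :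
    ∑ w ∈ nM G o, (kk G o y w : ℤ) = 60 := by
  rw [Finset.sum_congr rfl (fun w _ => kk_eq_sum G o y w), Finset.sum_comm]
  have e : ∀ p ∈ blk G o y, ∑ w ∈ nM G o, dd G w p = 15 := by
    intro p hp
    unfold dd
    rw [Finset.sum_boole, pt_deg G h o ((mem_nN G).mpr ((mem_blk G).mp hp).1)]
    norm_num
  rw [Finset.sum_congr rfl e, Finset.sum_const, card_blk G h o hy]
  norm_num

theorem sum_dd_dd (h : Is77 G) (o : V) {y z : V} (hy : y ∈ nM G o) (hz : z ∈ nM G o) :
    ∑ w ∈ nM G o, dd G y w * dd G w z =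
      (if y = z then 12 else 0) + 4 - 4 * dd G y z - (kk G o y z : ℤ) := by
  rw [Finset.sum_congr rfl (fun w _ => dd_mul_dd G y w w z), Finset.sum_boole]
  by_cases hyz : y = z
  · subst hyz
    rw [if_pos rfl, kk_self G h o hy]
    have e : (nM G o).filter (fun w => G.Adj y w ∧ G.Adj w y) =
        (nM G o).filter (fun w => G.Adj y w) := by
      apply Finset.filter_congr
      intro w _
      exact ⟨fun hh => hh.1, fun hh => ⟨hh, hh.symm⟩⟩
    rw [e, deg_nM G h o hy]
    unfold dd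
    rw [if_neg (G.loopless.irrefl y)]
    norm_num
  · rw [if_neg hyz]
    by_cases hadj : G.Adj y z
    · rw [kk_adj G h o hadj]
      have e : (nM G o).filter (fun w => G.Adj y w ∧ G.Adj w z) = ∅ := by
        rw [Finset.filter_eq_empty_iff]
        rintro w _ ⟨h1, h2⟩
        exact h.tri y w z h1 hadj h2
      rw [e]
      unfold dd
      rw [if_pos hadj]
      norm_num
    · have h1 := common_nM G h o hy hz hyz hadj
      unfold dd
      rw [if_neg hadj]
      omega

/-- the number of blocks adjacent to `y` through the point `p` -/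
theorem sum_dd_dd_pt (h : Is77 G) (o : V) {y p : V} (hy : y ∈ nM G o) (hp : p ∈ nN G o) :
    ∑ w ∈ nM G o, dd G y w * dd G w p = 4 - 4 * dd G y p := by
  rw [Finset.sum_congr rfl (fun w _ => dd_mul_dd G y w w p), Finset.sum_boole]
  by_cases hadj : G.Adj y p
  · rw [pt_blk' G h o hadj]
    unfold dd
    rw [if_pos hadj]
    norm_num
  · rw [pt_blk G h o hy hp hadj]
    unfold dd
    rw [if_neg hadj]
    norm_num

theorem sum_dd_kk (h : Is77 G) (o : V) {y z : V} (hy : y ∈ nM G o) (hz : z ∈ nM G o) :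
    ∑ w ∈ nM G o, dd G y w * (kk G o w z : ℤ) = 16 - 4 * (kk G o y z : ℤ) := by
  have e1 : ∀ w ∈ nM G o, dd G y w * (kk G o w z : ℤ) =
      ∑ p ∈ blk G o z, dd G y w * dd G w p := by
    intro w _
    rw [kk_symm G o w z, kk_eq_sum, Finset.mul_sum]
  rw [Finset.sum_congr rfl e1, Finset.sum_comm]
  have e2 : ∀ p ∈ blk G o z, ∑ w ∈ nM G o, dd G y w * dd G w p = 4 - 4 * dd G y p :=
    fun p hp => sum_dd_dd_pt G h o hy ((mem_nN G).mpr ((mem_blk G).mp hp).1)
  rw [Finset.sum_congr rfl e2, Finset.sum_sub_distrib, ← Finset.mul_sum, Finset.sum_const,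
    card_blk G h o hz, kk_symm G o y z, kk_eq_sum]
  norm_num

/-- the number of blocks through two points -/
theorem sum_dd_pt_pt (h : Is77 G) (o : V) {p q : V} (hp : p ∈ nN G o) (hq : q ∈ nN G o) :
    ∑ w ∈ nM G o, dd G w p * dd G w q = if p = q then 15 else 3 := by
  rw [Finset.sum_congr rfl (fun w _ => dd_mul_dd G w p w q), Finset.sum_boole]
  by_cases hpq : p = q
  · subst hpq
    rw [if_pos rfl]
    have e : (nM G o).filter (fun w => G.Adj w p ∧ G.Adj w p) =
        (nM G o).filter (fun w => G.Adj w p) := by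
      apply Finset.filter_congr
      intro w _
      exact ⟨fun hh => hh.1, fun hh => ⟨hh, hh⟩⟩
    rw [e, pt_deg G h o hp]
    norm_num
  · rw [if_neg hpq, pt_pair G h o hp hq hpq]
    norm_num

theorem sum_kk_kk (h : Is77 G) (o : V) {y z : V} (hy : y ∈ nM G o) (hz : z ∈ nM G o) :
    ∑ w ∈ nM G o, (kk G o y w : ℤ) * (kk G o w z : ℤ) = 12 * (kk G o y z : ℤ) + 48 := by
  have e1 : ∀ w ∈ nM G o, (kk G o y w : ℤ) * (kk G o w z : ℤ) =
      ∑ p ∈ blk G o y, ∑ q ∈ blk G o z, dd G w p * dd G w q := by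
    intro w _
    rw [kk_symm G o w z, kk_eq_sum, kk_eq_sum, Finset.sum_mul_sum]
  rw [Finset.sum_congr rfl e1, Finset.sum_comm]
  have e2 : ∀ p ∈ blk G o y, ∑ w ∈ nM G o, ∑ q ∈ blk G o z, dd G w p * dd G w q =
      12 * (if p ∈ blk G o z then 1 else 0) + 12 := by
    intro p hp
    rw [Finset.sum_comm]
    have e3 : ∀ q ∈ blk G o z, ∑ w ∈ nM G o, dd G w p * dd G w q =
        12 * (if p = q then 1 else 0) + 3 := by
      intro q hq
      rw [sum_dd_pt_pt G h o ((mem_nN G).mpr ((mem_blk G).mp hp).1)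
        ((mem_nN G).mpr ((mem_blk G).mp hq).1)]
      by_cases hpq : p = q
      · rw [if_pos hpq, if_pos hpq]; norm_num
      · rw [if_neg hpq, if_neg hpq]; norm_num
    rw [Finset.sum_congr rfl e3, Finset.sum_add_distrib, ← Finset.mul_sum, Finset.sum_ite_eq,
      Finset.sum_const, card_blk G h o hz]
    norm_num
  rw [Finset.sum_congr rfl e2, Finset.sum_add_distrib, ← Finset.mul_sum, Finset.sum_boole,
    Finset.sum_const, card_blk G h o hy]
  have e4 : (blk G o y).filter (fun p => p ∈ blk G o z) = blk G o y ∩ blk G o z := by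
    ext p
    rw [Finset.mem_filter, Finset.mem_inter]
  rw [e4]
  unfold kk
  norm_num

end Cfsg.Agent.Lib.helper3.S77
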