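import Mathlib
import Cfsg.Agent.Lib.helper3.S77.Defs
import Cfsg.Agent.Lib.helper3.S77.A1
import Cfsg.Agent.Lib.helper3.S77.A2

set_option autoImplicit false

/-! Project S77, piece A3: the identity `F² = 48 F` and its consequences. -/

namespace Cfsg.Agent.Lib.helper3.S77

open Finset

universe u

variable {V : Type u} [Fintype V] [DecidableEq V] (G : SimpleGraph V) [DecidableRel G.Adj]

theorem ff_eq (o y z : V) :
    ff G o y z = (if y = z then 12 else 0) + 4 - 6 * dd G y z - 3 * (kk G o y z : ℤ) := by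
  unfold ff dd
  by_cases h : G.Adj y z
  · rw [if_pos h, if_pos h]; ring
  · rw [if_neg h, if_neg h]; ring

theorem ff_symm (o y z : V) : ff G o y z = ff G o z y := by
  rw [ff_eq, ff_eq, dd_symm, kk_symm]
  by_cases h : y = z
  · rw [if_pos h, if_pos h.symm]
  · rw [if_neg h, if_neg (fun h' => h h'.symm)]

theorem ff_self (h : Is77 G) (o : V) {y : V} (hy : y ∈ nM G o) : ff G o y y = 4 := by
  rw [ff_eq, if_pos rfl, kk_self G h o hy]
  unfold dd
  rw [if_neg (G.loopless.irrefl y)]
  norm_num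

theorem ff_adj (h : Is77 G) (o : V) {y z : V} (hyz : G.Adj y z) : ff G o y z = -2 := by
  rw [ff_eq, if_neg (G.ne_of_adj hyz), kk_adj G h o hyz]
  unfold dd
  rw [if_pos hyz]
  norm_num

theorem sum_ff' (h : Is77 G) (o : V) {y : V} (hy : y ∈ nM G o) :
    ∑ w ∈ nM G o, ff G o y w = 0 := by
  have e : ∀ w ∈ nM G o, ff G o y w =
      (if y = w then 12 else 0) + 4 - 6 * dd G y w - 3 * (kk G o y w : ℤ) :=
    fun w _ => ff_eq G o y w
  rw [Finset.sum_congr rfl e, Finset.sum_sub_distrib, Finset.sum_sub_distrib,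
    Finset.sum_add_distrib, ← Finset.mul_sum, ← Finset.mul_sum, sum_dd G h o hy,
    sum_kk G h o hy, Finset.sum_ite_eq, if_pos hy, Finset.sum_const, card_nM G h o]
  norm_num

theorem sum_ff (h : Is77 G) (o : V) {y : V} (hy : y ∈ nM G o) :
    ∑ w ∈ nM G o, ff G o w y = 0 := by
  rw [← sum_ff' G h o hy]
  exact Finset.sum_congr rfl (fun w _ => ff_symm G o w y)

/-- the key identity, in row-column form -/
theorem ff_sq' (h : Is77 G) (o : V) {y z : V} (hy : y ∈ nM G o) (hz : z ∈ nM G o) :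
    ∑ w ∈ nM G o, ff G o y w * ff G o w z = 48 * ff G o y z := by
  have e : ∀ w ∈ nM G o, ff G o y w * ff G o w z =
      (if y = w then 12 * ff G o w z else 0)
      + (if w = z then 12 * (4 - 6 * dd G y w - 3 * (kk G o y w : ℤ)) else 0)
      + (16 - 24 * dd G z w - 12 * (kk G o z w : ℤ) - 24 * dd G y w - 12 * (kk G o y w : ℤ)
        + 36 * (dd G y w * dd G w z) + 18 * (dd G y w * (kk G o w z : ℤ))
        + 18 * (dd G z w * (kk G o w y : ℤ)) + 9 * ((kk G o y w : ℤ) * (kk G o w z : ℤ))) := by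
    intro w _
    rw [ff_eq G o y w, ff_eq G o w z, dd_symm G z w, kk_symm G o z w, kk_symm G o w y]
    by_cases h1 : y = w <;> by_cases h2 : w = z
    · simp only [if_pos h1, if_pos h2]; ring
    · simp only [if_pos h1, if_neg h2]; ring
    · simp only [if_neg h1, if_pos h2]; ring
    · simp only [if_neg h1, if_neg h2]; ring
  rw [Finset.sum_congr rfl e]
  simp only [Finset.sum_add_distrib, Finset.sum_sub_distrib, ← Finset.mul_sum]
  rw [Finset.sum_ite_eq, Finset.sum_ite_eq', if_pos hy, if_pos hz, sum_dd G h o hy,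
    sum_dd G h o hz, sum_kk G h o hy, sum_kk G h o hz, sum_dd_dd G h o hy hz,
    sum_dd_kk G h o hy hz, sum_dd_kk G h o hz hy, sum_kk_kk G h o hy hz, Finset.sum_const,
    card_nM G h o, ff_eq G o y z, kk_symm G o z y]
  by_cases h1 : y = z
  · rw [if_pos h1]
    simp only [nsmul_eq_mul]
    push_cast
    ring
  · rw [if_neg h1]
    simp only [nsmul_eq_mul]
    push_cast
    ring

/-- the key identity -/
theorem ff_sq (h : Is77 G) (o : V) {y z : V} (hy : y ∈ nM G o) (hz : z ∈ nM G o) :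
    ∑ w ∈ nM G o, ff G o w y * ff G o w z = 48 * ff G o y z := by
  rw [← ff_sq' G h o hy hz]
  exact Finset.sum_congr rfl (fun w _ => by rw [ff_symm G o w y])

theorem ff_ge (h : Is77 G) (o : V) {y z : V} (hy : y ∈ nM G o) (hz : z ∈ nM G o) :
    -4 ≤ ff G o y z := by
  have e : ∑ w ∈ nM G o, (ff G o w y + ff G o w z) ^ 2 = 48 * (8 + 2 * ff G o y z) := by
    have e1 : ∀ w ∈ nM G o, (ff G o w y + ff G o w z) ^ 2 =
        ff G o w y * ff G o w y + 2 * (ff G o w y * ff G o w z) + ff G o w z * ff G o w z :=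
      fun w _ => by ring
    rw [Finset.sum_congr rfl e1, Finset.sum_add_distrib, Finset.sum_add_distrib,
      ← Finset.mul_sum, ff_sq G h o hy hy, ff_sq G h o hy hz, ff_sq G h o hz hz,
      ff_self G h o hy, ff_self G h o hz]
    ring
  have hnn : 0 ≤ ∑ w ∈ nM G o, (ff G o w y + ff G o w z) ^ 2 :=
    Finset.sum_nonneg (fun w _ => sq_nonneg _)
  rw [e] at hnn
  linarith

theorem kk_le_two (h : Is77 G) (o : V) {y z : V} (hy : y ∈ nM G o) (hz : z ∈ nM G o)
    (hyz : y ≠ z) : kk G o y z ≤ 2 := by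
  by_cases hadj : G.Adj y z
  · rw [kk_adj G h o hadj]
    norm_num
  · have h1 := ff_ge G h o hy hz
    rw [ff_eq, if_neg hyz] at h1
    unfold dd at h1
    rw [if_neg hadj] at h1
    omega

theorem ff_cases (h : Is77 G) (o : V) {y z : V} (hy : y ∈ nM G o) (hz : z ∈ nM G o) :
    ff G o y z = 4 ∨ ff G o y z = 1 ∨ ff G o y z = -2 := by
  by_cases hyz : y = z
  · subst hyz
    exact Or.inl (ff_self G h o hy)
  · by_cases hadj : G.Adj y z
    · exact Or.inr (Or.inr (ff_adj G h o hadj))
    · have h1 := kk_le_two G h o hy hz hyz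
      rw [ff_eq, if_neg hyz]
      unfold dd
      rw [if_neg hadj]
      omega

/-- non-adjacent distinct vertices: the value of `F` in terms of `kk` -/
theorem ff_not_adj (o : V) {y z : V} (hyz : y ≠ z) (hadj : ¬G.Adj y z) :
    ff G o y z = 4 - 3 * (kk G o y z : ℤ) := by
  rw [ff_eq, if_neg hyz]
  unfold dd
  rw [if_neg hadj]
  ring

/-- equal columns -/
theorem ff_col (h : Is77 G) (o : V) {y z : V} (hy : y ∈ nM G o) (hz : z ∈ nM G o)
    (hyz : ff G o y z = 4) : ∀ w ∈ nM G o, ff G o w y = ff G o w z := by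
  have e : ∑ w ∈ nM G o, (ff G o w y - ff G o w z) ^ 2 = 0 := by
    have e1 : ∀ w ∈ nM G o, (ff G o w y - ff G o w z) ^ 2 =
        ff G o w y * ff G o w y - 2 * (ff G o w y * ff G o w z) + ff G o w z * ff G o w z :=
      fun w _ => by ring
    rw [Finset.sum_congr rfl e1, Finset.sum_add_distrib, Finset.sum_sub_distrib,
      ← Finset.mul_sum, ff_sq G h o hy hy, ff_sq G h o hy hz, ff_sq G h o hz hz,
      ff_self G h o hy, ff_self G h o hz, hyz]
    norm_num
  intro w hw
  have h1 := (Finset.sum_eq_zero_iff_of_nonneg (fun w _ => sq_nonneg _)).mp e w hw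
  have h2 := pow_eq_zero_iff (two_ne_zero) |>.mp h1
  linarith

/-- the three counts -/
theorem ff_counts (h : Is77 G) (o : V) {y : V} (hy : y ∈ nM G o) :
    ((nM G o).filter (fun z => ff G o y z = 4)).card = 4 ∧
    ((nM G o).filter (fun z => ff G o y z = 1)).card = 32 ∧
    ((nM G o).filter (fun z => ff G o y z = -2)).card = 24 := by
  set n4 := ((nM G o).filter (fun z => ff G o y z = 4)).card with hn4
  set n1 := ((nM G o).filter (fun z => ff G o y z = 1)).card with hn1
  set n2 := ((nM G o).filter (fun z => ff G o y z = -2)).card with hn2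
  have c4 : ∑ z ∈ nM G o, (if ff G o y z = 4 then (1 : ℤ) else 0) = n4 := by
    rw [Finset.sum_boole]
  have c1 : ∑ z ∈ nM G o, (if ff G o y z = 1 then (1 : ℤ) else 0) = n1 := by
    rw [Finset.sum_boole]
  have c2 : ∑ z ∈ nM G o, (if ff G o y z = -2 then (1 : ℤ) else 0) = n2 := by
    rw [Finset.sum_boole]
  have key : ∀ z ∈ nM G o,
      (1 : ℤ) = (if ff G o y z = 4 then (1 : ℤ) else 0) + (if ff G o y z = 1 then (1 : ℤ) else 0)
        + (if ff G o y z = -2 then (1 : ℤ) else 0) ∧
      ff G o y z = 4 * (if ff G o y z = 4 then (1 : ℤ) else 0)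
        + (if ff G o y z = 1 then (1 : ℤ) else 0)
        - 2 * (if ff G o y z = -2 then (1 : ℤ) else 0) ∧
      ff G o y z * ff G o y z = 16 * (if ff G o y z = 4 then (1 : ℤ) else 0)
        + (if ff G o y z = 1 then (1 : ℤ) else 0)
        + 4 * (if ff G o y z = -2 then (1 : ℤ) else 0) := by
    intro z hz
    rcases ff_cases G h o hy hz with h1 | h1 | h1 <;> rw [h1] <;> norm_num
  have s0 : (60 : ℤ) = n4 + n1 + n2 := by
    rw [← c4, ← c1, ← c2, ← Finset.sum_add_distrib, ← Finset.sum_add_distrib,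
      ← Finset.sum_congr rfl (fun z hz => (key z hz).1), Finset.sum_const, card_nM G h o]
    norm_num
  have s1 : (0 : ℤ) = 4 * n4 + n1 - 2 * n2 := by
    rw [← c4, ← c1, ← c2, Finset.mul_sum, Finset.mul_sum, ← Finset.sum_add_distrib,
      ← Finset.sum_sub_distrib, ← Finset.sum_congr rfl (fun z hz => (key z hz).2.1),
      sum_ff' G h o hy]
  have s2 : (192 : ℤ) = 16 * n4 + n1 + 4 * n2 := by
    rw [← c4, ← c1, ← c2, Finset.mul_sum, Finset.mul_sum, ← Finset.sum_add_distrib,
      ← Finset.sum_add_distrib, ← Finset.sum_congr rfl (fun z hz => (key z hz).2.2)]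
    have := ff_sq G h o hy hy
    rw [ff_self G h o hy] at this
    rw [← Finset.sum_congr rfl (fun w _ => by rw [ff_symm G o w y])] at this
    linarith
  omega

theorem card_cls (h : Is77 G) (o : V) {y : V} (hy : y ∈ nM G o) : (cls G o y).card = 4 :=
  (ff_counts G h o hy).1

theorem card_ff_one (h : Is77 G) (o : V) {y : V} (hy : y ∈ nM G o) :
    ((nM G o).filter (fun z => ff G o y z = 1)).card = 32 :=
  (ff_counts G h o hy).2.1

theorem card_ff_neg_two (h : Is77 G) (o : V) {y : V} (hy : y ∈ nM G o) :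
    ((nM G o).filter (fun z => ff G o y z = -2)).card = 24 :=
  (ff_counts G h o hy).2.2

end Cfsg.Agent.Lib.helper3.S77
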