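import Mathlib
import Cfsg.Agent.Lib.helper3.S77.Defs
import Cfsg.Agent.Lib.helper3.S77.A1
import Cfsg.Agent.Lib.helper3.S77.A2
import Cfsg.Agent.Lib.helper3.S77.A3

set_option autoImplicit false

/-! Project S77, piece A4: the 15 classes. -/

namespace Cfsg.Agent.Lib.helper3.S77

open Finset

universe u

variable {V : Type u} [Fintype V] [DecidableEq V] (G : SimpleGraph V) [DecidableRel G.Adj]

theorem mem_cls {o y z : V} : z ∈ cls G o y ↔ z ∈ nM G o ∧ ff G o y z = 4 := by
  unfold cls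
  rw [Finset.mem_filter]

theorem cls_subset (o y : V) : cls G o y ⊆ nM G o := Finset.filter_subset _ _

theorem mem_cls_self (h : Is77 G) (o : V) {y : V} (hy : y ∈ nM G o) : y ∈ cls G o y :=
  (mem_cls G).mpr ⟨hy, ff_self G h o hy⟩

theorem cls_eq_of_mem (h : Is77 G) (o : V) {y z : V} (hy : y ∈ nM G o) (hz : z ∈ cls G o y) :
    cls G o z = cls G o y := by
  have hz' := (mem_cls G).mp hz
  ext w
  rw [mem_cls, mem_cls]
  constructor
  · rintro ⟨hw, h1⟩
    refine ⟨hw, ?_⟩
    rw [ff_symm G o y w, ff_col G h o hy hz'.1 hz'.2 w hw, ff_symm G o w z]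
    exact h1
  · rintro ⟨hw, h1⟩
    refine ⟨hw, ?_⟩
    rw [ff_symm G o z w, ← ff_col G h o hy hz'.1 hz'.2 w hw, ff_symm G o w y]
    exact h1

theorem mem_clsSet_iff (o : V) (c : Finset V) :
    c ∈ clsSet G o ↔ ∃ y ∈ nM G o, cls G o y = c := by
  unfold clsSet
  rw [Finset.mem_image]

theorem cls_mem_clsSet (o : V) {y : V} (hy : y ∈ nM G o) : cls G o y ∈ clsSet G o :=
  (mem_clsSet_iff G o _).mpr ⟨y, hy, rfl⟩

theorem clsSet_subset (o : V) {c : Finset V} (hc : c ∈ clsSet G o) : c ⊆ nM G o := by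
  obtain ⟨y, _, rfl⟩ := (mem_clsSet_iff G o c).mp hc
  exact cls_subset G o y

theorem eq_cls_of_mem (h : Is77 G) (o : V) {c : Finset V} (hc : c ∈ clsSet G o) {y : V}
    (hy : y ∈ c) : c = cls G o y := by
  obtain ⟨y0, hy0, rfl⟩ := (mem_clsSet_iff G o c).mp hc
  exact (cls_eq_of_mem G h o hy0 hy).symm

theorem clsSet_card_eq (h : Is77 G) (o : V) {c : Finset V} (hc : c ∈ clsSet G o) :
    c.card = 4 := by
  obtain ⟨y, hy, rfl⟩ := (mem_clsSet_iff G o c).mp hc
  exact card_cls G h o hy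

theorem clsSet_disjoint (h : Is77 G) (o : V) {c d : Finset V} (hc : c ∈ clsSet G o)
    (hd : d ∈ clsSet G o) (hcd : c ≠ d) : Disjoint c d := by
  rw [Finset.disjoint_left]
  intro w hwc hwd
  exact hcd ((eq_cls_of_mem G h o hc hwc).trans (eq_cls_of_mem G h o hd hwd).symm)

theorem biUnion_clsSet (h : Is77 G) (o : V) : (clsSet G o).biUnion id = nM G o := by
  ext w
  rw [Finset.mem_biUnion]
  constructor
  · rintro ⟨c, hc, hw⟩
    exact clsSet_subset G o hc hw
  · intro hw
    exact ⟨cls G o w, cls_mem_clsSet G o hw, mem_cls_self G h o hw⟩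

theorem card_clsSet (h : Is77 G) (o : V) : (clsSet G o).card = 15 := by
  have h1 : ((clsSet G o).biUnion id).card = ∑ c ∈ clsSet G o, (id c).card :=
    Finset.card_biUnion (fun c hc d hd hcd => clsSet_disjoint G h o hc hd hcd)
  have h2 : ∑ c ∈ clsSet G o, (id c).card = ∑ _c ∈ clsSet G o, 4 :=
    Finset.sum_congr rfl (fun c hc => clsSet_card_eq G h o hc)
  rw [biUnion_clsSet G h o, card_nM G h o, h2, Finset.sum_const, smul_eq_mul] at h1
  omega

theorem cls_ff_four (h : Is77 G) (o : V) {c : Finset V} (hc : c ∈ clsSet G o) {y z : V}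
    (hy : y ∈ c) (hz : z ∈ c) : ff G o y z = 4 := by
  rw [eq_cls_of_mem G h o hc hy] at hz
  exact ((mem_cls G).mp hz).2

theorem cls_ff_ne_four (h : Is77 G) (o : V) {c d : Finset V} (hc : c ∈ clsSet G o)
    (hd : d ∈ clsSet G o) (hcd : c ≠ d) {y z : V} (hy : y ∈ c) (hz : z ∈ d) :
    ff G o y z ≠ 4 := by
  intro hf
  have hz' : z ∈ c := by
    rw [eq_cls_of_mem G h o hc hy]
    exact (mem_cls G).mpr ⟨clsSet_subset G o hd hz, hf⟩
  exact Finset.disjoint_left.mp (clsSet_disjoint G h o hc hd hcd) hz' hz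

/-- `F` is constant between two classes -/
theorem cls_ff_const (h : Is77 G) (o : V) {c d : Finset V} (hc : c ∈ clsSet G o)
    (hd : d ∈ clsSet G o) {y y' z z' : V} (hy : y ∈ c) (hy' : y' ∈ c) (hz : z ∈ d)
    (hz' : z' ∈ d) : ff G o y z = ff G o y' z' := by
  have hyM := clsSet_subset G o hc hy
  have hy'M := clsSet_subset G o hc hy'
  have hzM := clsSet_subset G o hd hz
  have hz'M := clsSet_subset G o hd hz'
  rw [ff_symm G o y z, ff_col G h o hyM hy'M (cls_ff_four G h o hc hy hy') z hzM,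
    ff_symm G o z y', ff_col G h o hzM hz'M (cls_ff_four G h o hd hz hz') y' hy'M]

/-- distinct vertices of a class are non-adjacent with disjoint blocks -/
theorem cls_pair (h : Is77 G) (o : V) {c : Finset V} (hc : c ∈ clsSet G o) {y z : V}
    (hy : y ∈ c) (hz : z ∈ c) (hyz : y ≠ z) : ¬G.Adj y z ∧ kk G o y z = 0 := by
  have h4 := cls_ff_four G h o hc hy hz
  have hadj : ¬G.Adj y z := by
    intro hadj
    rw [ff_adj G h o hadj] at h4
    norm_num at h4
  refine ⟨hadj, ?_⟩
  rw [ff_not_adj G o hyz hadj] at h4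
  omega

/-- the blocks of a class partition the points -/
theorem cls_pt (h : Is77 G) (o : V) {c : Finset V} (hc : c ∈ clsSet G o) {p : V}
    (hp : p ∈ nN G o) : (c.filter (fun y => G.Adj y p)).card = 1 := by
  have hdis : ∀ y ∈ c, ∀ z ∈ c, y ≠ z → Disjoint (blk G o y) (blk G o z) := by
    intro y hy z hz hyz
    have := (cls_pair G h o hc hy hz hyz).2
    unfold kk at this
    rw [Finset.disjoint_iff_inter_eq_empty]
    exact Finset.card_eq_zero.mp this
  have hcard : (c.biUnion (fun y => blk G o y)).card = 16 := by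
    rw [Finset.card_biUnion hdis,
      Finset.sum_congr rfl (fun y hy => card_blk G h o (clsSet_subset G o hc hy)),
      Finset.sum_const, clsSet_card_eq G h o hc]
    rfl
  have hsub : c.biUnion (fun y => blk G o y) ⊆ nN G o := by
    intro q hq
    rw [Finset.mem_biUnion] at hq
    obtain ⟨y, _, hq⟩ := hq
    exact (mem_nN G).mpr ((mem_blk G).mp hq).1
  have heq : c.biUnion (fun y => blk G o y) = nN G o :=
    Finset.eq_of_subset_of_card_le hsub (by rw [hcard, card_nN G h o])
  rw [← heq, Finset.mem_biUnion] at hp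
  obtain ⟨y, hy, hpy⟩ := hp
  rw [Finset.card_eq_one]
  refine ⟨y, ?_⟩
  ext z
  rw [Finset.mem_filter, Finset.mem_singleton]
  constructor
  · rintro ⟨hz, hzp⟩
    by_contra hne
    have hd := hdis y hy z hz (fun hh => hne hh.symm)
    have hpz : p ∈ blk G o z := (mem_blk G).mpr ⟨((mem_blk G).mp hpy).1, hzp⟩
    exact Finset.disjoint_left.mp hd hpy hpz
  · rintro rfl
    exact ⟨hy, ((mem_blk G).mp hpy).2⟩

end Cfsg.Agent.Lib.helper3.S77
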