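import Mathlib
import Cfsg.Agent.Lib.helper3.S77.Defs
import Cfsg.Agent.Lib.helper3.S77.A1
import Cfsg.Agent.Lib.helper3.S77.A2
import Cfsg.Agent.Lib.helper3.S77.A3
import Cfsg.Agent.Lib.helper3.S77.A4

set_option autoImplicit false

/-! Project S77, piece B1: the relation `TAdj` between classes. -/

namespace Cfsg.Agent.Lib.helper3.S77

open Finset

universe u

variable {V : Type u} [Fintype V] [DecidableEq V] (G : SimpleGraph V) [DecidableRel G.Adj]

theorem clsSet_nonempty (h : Is77 G) (o : V) {c : Finset V} (hc : c ∈ clsSet G o) :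
    c.Nonempty := by
  rw [← Finset.card_pos, clsSet_card_eq G h o hc]
  norm_num

theorem tadj_iff (h : Is77 G) (o : V) {c d : Finset V} (hc : c ∈ clsSet G o)
    (hd : d ∈ clsSet G o) :
    TAdj G o c d ↔ c ≠ d ∧ ∀ y ∈ c, ∀ z ∈ d, ff G o y z = -2 := by
  constructor
  · rintro ⟨hne, y, hy, z, hz, hf⟩
    exact ⟨hne, fun y' hy' z' hz' => (cls_ff_const G h o hc hd hy' hy hz' hz).trans hf⟩
  · rintro ⟨hne, hall⟩
    obtain ⟨y, hy⟩ := clsSet_nonempty G h o hc
    obtain ⟨z, hz⟩ := clsSet_nonempty G h o hd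
    exact ⟨hne, y, hy, z, hz, hall y hy z hz⟩

theorem not_tadj (h : Is77 G) (o : V) {c d : Finset V} (hc : c ∈ clsSet G o)
    (hd : d ∈ clsSet G o) (hcd : c ≠ d) (hT : ¬TAdj G o c d) :
    ∀ y ∈ c, ∀ z ∈ d, ff G o y z = 1 := by
  intro y hy z hz
  rcases ff_cases G h o (clsSet_subset G o hc hy) (clsSet_subset G o hd hz) with h1 | h1 | h1
  · exact absurd h1 (cls_ff_ne_four G h o hc hd hcd hy hz)
  · exact h1
  · exact absurd ⟨hcd, y, hy, z, hz, h1⟩ hT

theorem tadj_symm (_h : Is77 G) (o : V) {c d : Finset V} (hT : TAdj G o c d) :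
    TAdj G o d c := by
  obtain ⟨hne, y, hy, z, hz, hf⟩ := hT
  exact ⟨hne.symm, z, hz, y, hy, by rw [ff_symm]; exact hf⟩

/-- the intersection numbers of a block with the blocks of a class add up to 4 -/
theorem sum_kk_cls (h : Is77 G) (o : V) {d : Finset V} (hd : d ∈ clsSet G o) {y : V}
    (hy : y ∈ nM G o) : ∑ z ∈ d, (kk G o y z : ℤ) = 4 := by
  rw [Finset.sum_congr rfl (fun z _ => kk_eq_sum G o y z), Finset.sum_comm]
  have e : ∀ p ∈ blk G o y, ∑ z ∈ d, dd G z p = 1 := by
    intro p hp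
    unfold dd
    rw [Finset.sum_boole, cls_pt G h o hd ((mem_nN G).mpr ((mem_blk G).mp hp).1)]
    norm_num
  rw [Finset.sum_congr rfl e, Finset.sum_const, card_blk G h o hy]
  norm_num

/-- between two meeting classes every vertex has a neighbour (in fact two) in the other class -/
theorem tadj_adj (h : Is77 G) (o : V) {c d : Finset V} (hc : c ∈ clsSet G o)
    (hd : d ∈ clsSet G o) (hT : TAdj G o c d) {y : V} (hy : y ∈ c) : ∃ z ∈ d, G.Adj y z := by
  by_contra hcon
  push Not at hcon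
  obtain ⟨hne, hall⟩ := (tadj_iff G h o hc hd).mp hT
  have hyM := clsSet_subset G o hc hy
  have e : ∀ z ∈ d, (kk G o y z : ℤ) = 2 := by
    intro z hz
    have hyz : y ≠ z := by
      rintro rfl
      exact Finset.disjoint_left.mp (clsSet_disjoint G h o hc hd hne) hy hz
    have h1 := hall y hy z hz
    rw [ff_not_adj G o hyz (hcon z hz)] at h1
    linarith
  have h1 := sum_kk_cls G h o hd hyM
  rw [Finset.sum_congr rfl e, Finset.sum_const, clsSet_card_eq G h o hd] at h1
  norm_num at h1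

end Cfsg.Agent.Lib.helper3.S77
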