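import Mathlib
import Cfsg.Agent.Lib.helper3.S77.Defs

set_option autoImplicit false

/-! Project S77: the two maps between 21-cocliques through `o` and sets of classes (shared by CO1, CO2, CO3). -/

namespace Cfsg.Agent.Lib.helper3.S77

open Finset

universe u

variable {V : Type u} [Fintype V] [DecidableEq V] (G : SimpleGraph V) [DecidableRel G.Adj]

/-- the classes inside `C` -/
noncomputable def ovOf (o : V) (C : Finset V) : Finset ↥(clsSet G o) :=
  univ.filter (fun c => c.1 ⊆ C)

/-- the base vertex with the union of some classes -/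
noncomputable def cocOf (o : V) (O : Finset ↥(clsSet G o)) : Finset V :=
  insert o (O.biUnion (fun c => c.1))

theorem mem_ovOf {o : V} {C : Finset V} {c : ↥(clsSet G o)} : c ∈ ovOf G o C ↔ c.1 ⊆ C := by
  unfold ovOf
  rw [Finset.mem_filter]
  exact ⟨fun hh => hh.2, fun hh => ⟨Finset.mem_univ _, hh⟩⟩

theorem mem_cocOf {o : V} {O : Finset ↥(clsSet G o)} {x : V} :
    x ∈ cocOf G o O ↔ x = o ∨ ∃ c ∈ O, x ∈ c.1 := by
  unfold cocOf
  rw [Finset.mem_insert, Finset.mem_biUnion]

end Cfsg.Agent.Lib.helper3.S77
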