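import Mathlib
import Cfsg.Agent.Lib.helper3.S77.Defs
import Cfsg.Agent.Lib.helper3.S77.A1
import Cfsg.Agent.Lib.helper3.S77.A2
import Cfsg.Agent.Lib.helper3.S77.A3
import Cfsg.Agent.Lib.helper3.S77.A4
import Cfsg.Agent.Lib.helper3.S77.B1
import Cfsg.Agent.Lib.helper3.S77.CODefs
import Cfsg.Agent.Lib.Helper20.S77HOF

set_option autoImplicit false

/-! Project S77, piece CO1: a 21-coclique through `o` is a union of classes forming an ovoid. -/

namespace Cfsg.Agent.Lib.helper3.S77

open Finset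

universe u

variable {V : Type u} [Fintype V] [DecidableEq V] (G : SimpleGraph V) [DecidableRel G.Adj]

/-- the other vertices of a coclique through `o` are block vertices -/
theorem coc_mem_nM {o : V} {C : Finset V} (hC : IsCoc21 G C) (ho : o ∈ C) {x : V}
    (hx : x ∈ C.erase o) : x ∈ nM G o := by
  rw [Finset.mem_erase] at hx
  exact (mem_nM G).mpr ⟨hx.1, hC.2 o ho x hx.2⟩

/-- every point lies in 5 blocks of the coclique -/
theorem coc_sum_pt (h : Is77 G) {o : V} {C : Finset V} (hC : IsCoc21 G C) (ho : o ∈ C)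
    {p : V} (hp : p ∈ nN G o) : ∑ w ∈ C.erase o, dd G w p = 5 := by
  have hp' := (mem_nN G).mp hp
  have hpC : p ∉ C := fun hpC => hC.2 o ho p hpC hp'
  have h1 := Cfsg.Agent.Lib.Helper20.S77.coc21_regular G h hC hpC
  have e : C.filter (fun x => G.Adj p x) = insert o ((C.erase o).filter (fun x => G.Adj p x)) := by
    ext x
    rw [Finset.mem_insert, Finset.mem_filter, Finset.mem_filter, Finset.mem_erase]
    constructor
    · rintro ⟨hx, hpx⟩
      by_cases hxo : x = o
      · exact Or.inl hxo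
      · exact Or.inr ⟨⟨hxo, hx⟩, hpx⟩
    · rintro (rfl | ⟨⟨_, hx⟩, hpx⟩)
      · exact ⟨ho, hp'.symm⟩
      · exact ⟨hx, hpx⟩
  have hno : o ∉ (C.erase o).filter (fun x => G.Adj p x) := by
    rw [Finset.mem_filter, Finset.mem_erase]
    exact fun hh => hh.1.1 rfl
  rw [e, Finset.card_insert_of_notMem hno] at h1
  have e2 : ∀ w ∈ C.erase o, dd G w p = if G.Adj p w then 1 else 0 := by
    intro w _
    rw [dd_symm]
    rfl
  rw [Finset.sum_congr rfl e2, Finset.sum_boole]
  have : ((C.erase o).filter (fun x => G.Adj p x)).card = 5 := by omega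
  rw [this]
  norm_num

/-- a block vertex outside the coclique has 6 neighbours in it, one inside has none -/
theorem coc_sum_dd (h : Is77 G) {o : V} {C : Finset V} (hC : IsCoc21 G C) (ho : o ∈ C)
    {z : V} (hz : z ∈ nM G o) :
    ∑ w ∈ C.erase o, dd G w z = if z ∈ C then 0 else 6 := by
  have hz' := (mem_nM G).mp hz
  have e2 : ∀ w ∈ C.erase o, dd G w z = if G.Adj z w then 1 else 0 := by
    intro w _
    rw [dd_symm]
    rfl
  rw [Finset.sum_congr rfl e2, Finset.sum_boole]
  by_cases hzC : z ∈ C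
  · rw [if_pos hzC]
    have : (C.erase o).filter (fun x => G.Adj z x) = ∅ := by
      rw [Finset.filter_eq_empty_iff]
      intro w hw hzw
      exact hC.2 z hzC w (Finset.mem_of_mem_erase hw) hzw
    rw [this]
    norm_num
  · rw [if_neg hzC]
    have h1 := Cfsg.Agent.Lib.Helper20.S77.coc21_regular G h hC hzC
    have e : C.filter (fun x => G.Adj z x) = (C.erase o).filter (fun x => G.Adj z x) := by
      ext x
      rw [Finset.mem_filter, Finset.mem_filter, Finset.mem_erase]
      constructor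
      · rintro ⟨hx, hzx⟩
        refine ⟨⟨?_, hx⟩, hzx⟩
        rintro rfl
        exact hz'.2 hzx.symm
      · rintro ⟨⟨_, hx⟩, hzx⟩
        exact ⟨hx, hzx⟩
    rw [← e, h1]
    norm_num

theorem coc_sum_kk (h : Is77 G) {o : V} {C : Finset V} (hC : IsCoc21 G C) (ho : o ∈ C)
    {z : V} (hz : z ∈ nM G o) : ∑ w ∈ C.erase o, (kk G o w z : ℤ) = 20 := by
  have e1 : ∀ w ∈ C.erase o, (kk G o w z : ℤ) = ∑ p ∈ blk G o z, dd G w p := by
    intro w _
    rw [kk_symm G o w z, kk_eq_sum]
  rw [Finset.sum_congr rfl e1, Finset.sum_comm]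
  have e2 : ∀ p ∈ blk G o z, ∑ w ∈ C.erase o, dd G w p = 5 :=
    fun p hp => coc_sum_pt G h hC ho ((mem_nN G).mpr ((mem_blk G).mp hp).1)
  rw [Finset.sum_congr rfl e2, Finset.sum_const, card_blk G h o hz]
  norm_num

theorem coc_sum_ff (h : Is77 G) {o : V} {C : Finset V} (hC : IsCoc21 G C) (ho : o ∈ C)
    {z : V} (hz : z ∈ nM G o) :
    ∑ w ∈ C.erase o, ff G o w z = if z ∈ C then 32 else -16 := by
  have hz' := (mem_nM G).mp hz
  have e : ∀ w ∈ C.erase o, ff G o w z =
      (if w = z then 12 else 0) + 4 - 6 * dd G w z - 3 * (kk G o w z : ℤ) :=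
    fun w _ => ff_eq G o w z
  have hcard : (C.erase o).card = 20 := by
    rw [Finset.card_erase_of_mem ho, hC.1]
  rw [Finset.sum_congr rfl e, Finset.sum_sub_distrib, Finset.sum_sub_distrib,
    Finset.sum_add_distrib, ← Finset.mul_sum, ← Finset.mul_sum, coc_sum_dd G h hC ho hz,
    coc_sum_kk G h hC ho hz, Finset.sum_ite_eq', Finset.sum_const, hcard]
  by_cases hzC : z ∈ C
  · rw [if_pos hzC, if_pos hzC, if_pos (Finset.mem_erase.mpr ⟨hz'.1, hzC⟩)]
    norm_num
  · rw [if_neg hzC, if_neg hzC, if_neg (fun hh => hzC (Finset.mem_of_mem_erase hh))]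
    norm_num

/-- a class meeting a 21-coclique through `o` lies inside it -/
theorem coc21_cls (h : Is77 G) (o : V) {C : Finset V} (hC : IsCoc21 G C) (ho : o ∈ C)
    {y z : V} (hy : y ∈ nM G o) (hz : z ∈ nM G o) (hyC : y ∈ C) (hyz : ff G o y z = 4) :
    z ∈ C := by
  by_contra hzC
  have h1 := coc_sum_ff G h hC ho hy
  have h2 := coc_sum_ff G h hC ho hz
  rw [if_pos hyC] at h1
  rw [if_neg hzC] at h2
  have h3 : ∑ w ∈ C.erase o, ff G o w y = ∑ w ∈ C.erase o, ff G o w z :=
    Finset.sum_congr rfl (fun w hw => ff_col G h o hy hz hyz w (coc_mem_nM G hC ho hw))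
  rw [h1, h2] at h3
  norm_num at h3

theorem cocOf_ovOf (h : Is77 G) (o : V) {C : Finset V} (hC : IsCoc21 G C) (ho : o ∈ C) :
    cocOf G o (ovOf G o C) = C := by
  ext x
  rw [mem_cocOf]
  constructor
  · rintro (rfl | ⟨c, hc, hx⟩)
    · exact ho
    · exact (mem_ovOf G).mp hc hx
  · intro hx
    by_cases hxo : x = o
    · exact Or.inl hxo
    · right
      have hxM : x ∈ nM G o := coc_mem_nM G hC ho (Finset.mem_erase.mpr ⟨hxo, hx⟩)
      refine ⟨⟨cls G o x, cls_mem_clsSet G o hxM⟩, ?_, mem_cls_self G h o hxM⟩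
      rw [mem_ovOf]
      intro z hz
      have hz' := (mem_cls G).mp hz
      exact coc21_cls G h o hC ho hxM hz'.1 hx hz'.2

/-- the size of the union of some classes with the base vertex -/
theorem card_cocOf (h : Is77 G) (o : V) (O : Finset ↥(clsSet G o)) :
    (cocOf G o O).card = 1 + 4 * O.card := by
  unfold cocOf
  have hno : o ∉ O.biUnion (fun c => c.1) := by
    rw [Finset.mem_biUnion]
    rintro ⟨c, _, hoc⟩
    exact ((mem_nM G).mp (clsSet_subset G o c.2 hoc)).1 rfl
  have hdis : ∀ c ∈ O, ∀ d ∈ O, c ≠ d → Disjoint c.1 d.1 := by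
    intro c _ d _ hcd
    exact clsSet_disjoint G h o c.2 d.2 (fun hh => hcd (Subtype.ext hh))
  rw [Finset.card_insert_of_notMem hno, Finset.card_biUnion hdis,
    Finset.sum_congr rfl (fun c _ => clsSet_card_eq G h o c.2), Finset.sum_const, smul_eq_mul]
  ring

theorem ovOf_isOv (h : Is77 G) (o : V) {C : Finset V} (hC : IsCoc21 G C) (ho : o ∈ C) :
    IsOv (fun c d : ↥(clsSet G o) => TAdj G o c.1 d.1) (ovOf G o C) := by
  refine ⟨?_, ?_⟩
  · have h1 := card_cocOf G h o (ovOf G o C)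
    rw [cocOf_ovOf G h o hC ho, hC.1] at h1
    omega
  · intro c hc d hd hT
    obtain ⟨y, hy⟩ := clsSet_nonempty G h o c.2
    obtain ⟨z, hz, hadj⟩ := tadj_adj G h o c.2 d.2 hT hy
    exact hC.2 y ((mem_ovOf G).mp hc hy) z ((mem_ovOf G).mp hd hz) hadj

end Cfsg.Agent.Lib.helper3.S77
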