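import Mathlib
import Cfsg.Agent.Lib.helper3.S77.Defs
import Cfsg.Agent.Lib.helper3.S77.A1
import Cfsg.Agent.Lib.helper3.S77.A4
import Cfsg.Agent.Lib.helper3.S77.CODefs
import Cfsg.Agent.Lib.helper3.S77.CO1
import Cfsg.Agent.Lib.Helper13.S77B2
import Cfsg.Agent.Lib.Helper28.S77CO2
import Cfsg.Agent.Lib.helper6.S77GQ2

set_option autoImplicit false

/-! Project S77, piece CO3: counting the 21-cocliques through one and through two vertices. -/

namespace Cfsg.Agent.Lib.helper3.S77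

open Finset Cfsg.Agent.Lib.Helper13.S77 Cfsg.Agent.Lib.Helper28.S77 Cfsg.Agent.Lib.helper6.S77

universe u

variable {V : Type u} [Fintype V] [DecidableEq V] (G : SimpleGraph V) [DecidableRel G.Adj]

theorem coc21_through_one (h : Is77 G) (o : V) :
    {C : Finset V | IsCoc21 G C ∧ o ∈ C}.ncard = 6 := by
  rw [← (gq_ovoids _ (cls_gq G h o)).1]
  refine Set.ncard_congr (fun C _ => ovOf G o C) ?_ ?_ ?_
  · rintro C ⟨hC, ho⟩
    exact ovOf_isOv G h o hC ho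
  · rintro C C' ⟨hC, ho⟩ ⟨hC', ho'⟩ heq
    rw [← cocOf_ovOf G h o hC ho, ← cocOf_ovOf G h o hC' ho']
    exact congrArg (cocOf G o) heq
  · intro O hO
    exact ⟨cocOf G o O, cocOf_isCoc21 G h o hO, ovOf_cocOf G h o hO⟩

theorem coc21_through_two (h : Is77 G) {o x : V} (hox : o ≠ x) (hadj : ¬G.Adj o x) :
    {C : Finset V | IsCoc21 G C ∧ o ∈ C ∧ x ∈ C}.ncard = 2 := by
  have hx : x ∈ nM G o := (mem_nM G).mpr ⟨hox.symm, hadj⟩
  rw [← (gq_ovoids _ (cls_gq G h o)).2 ⟨cls G o x, cls_mem_clsSet G o hx⟩]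
  refine Set.ncard_congr (fun C _ => ovOf G o C) ?_ ?_ ?_
  · rintro C ⟨hC, ho, hxC⟩
    refine ⟨ovOf_isOv G h o hC ho, ?_⟩
    rw [← mem_cocOf_iff G h o _ hx, cocOf_ovOf G h o hC ho]
    exact hxC
  · rintro C C' ⟨hC, ho, _⟩ ⟨hC', ho', _⟩ heq
    rw [← cocOf_ovOf G h o hC ho, ← cocOf_ovOf G h o hC' ho']
    exact congrArg (cocOf G o) heq
  · rintro O ⟨hO, hxO⟩
    have h1 := cocOf_isCoc21 G h o hO
    exact ⟨cocOf G o O, ⟨h1.1, h1.2, (mem_cocOf_iff G h o O hx).mpr hxO⟩, ovOf_cocOf G h o hO⟩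

end Cfsg.Agent.Lib.helper3.S77
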