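import Mathlib
import Cfsg.Agent.Lib.helper3.S77.Defs
import Cfsg.Agent.Lib.helper3.S77.CO3
import Cfsg.Agent.Lib.Helper20.S77ASM1
import Cfsg.Agent.Lib.Helper21.S77ASM2
import Cfsg.Agent.S0410

set_option autoImplicit false

/-! Project S77: the strongly regular graph with parameters `(77, 16, 0, 4)` is unique. -/

namespace Cfsg.Agent.Lib.helper3.S77

open Finset Cfsg

universe u v

theorem srg77_unique {V : Type u} {W : Type v} [Fintype V] [Fintype W] {G : SimpleGraph V}
    {H : SimpleGraph W} [DecidableRel G.Adj] [DecidableRel H.Adj]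
    (hG : G.IsSRGWith 77 16 0 4) (hH : H.IsSRGWith 77 16 0 4) : Nonempty (G ≃g H) := by
  classical
  have h1 := is77_of_srg G hG
  have h2 := is77_of_srg H hH
  obtain ⟨P, _, _, B, hP, hB, ⟨e1⟩⟩ := Cfsg.Agent.Lib.Helper20.S77.steiner_of_coc G h1
    (coc21_through_one G h1) (fun o x hox hadj => coc21_through_two G h1 hox hadj)
  obtain ⟨P', _, _, B', hP', hB', ⟨e2⟩⟩ := Cfsg.Agent.Lib.Helper20.S77.steiner_of_coc H h2
    (coc21_through_one H h2) (fun o x hox hadj => coc21_through_two H h2 hox hadj)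
  obtain ⟨e3⟩ := Cfsg.Agent.Lib.Helper21.S77.blockGraph_iso
    (Cfsg.Agent.S0410.result hP hP' hB hB')
  exact ⟨(e1.trans e3).trans e2.symm⟩

end Cfsg.Agent.Lib.helper3.S77
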